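import Groth.Prelude.Def_W4c6equivkfinstabCyc
import Mathlib.RingTheory.Ideal.Maps
import Mathlib.RingTheory.RootsOfUnity.PrimitiveRoots
import Mathlib.RingTheory.Polynomial.Cyclotomic.Roots
import Mathlib.RingTheory.Jacobson.Ideal

set_option autoImplicit false
universe u v w

/-! Kernels of the cyclotomic quotients of group rings. -/

namespace K989.Cyc

open W4c6equivkfinstab AddMonoidAlgebra

variable (Λ : Type u) [CommRing Λ] (M : Type v) [AddCommGroup M]

theorem quotMap_single (B : AddSubgroup M) (m : M) (r : Λ) :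
    quotMap Λ M B (single m r) = single (QuotientAddGroup.mk m) r := by
  simp [quotMap, AddMonoidAlgebra.mapDomainRingHom]

theorem quotMap_surjective (B : AddSubgroup M) : Function.Surjective (quotMap Λ M B) := by
  intro x
  induction x using AddMonoidAlgebra.induction_linear with
  | zero => exact ⟨0, map_zero _⟩
  | add x y hx hy =>
    obtain ⟨a, rfl⟩ := hx
    obtain ⟨b, rfl⟩ := hy
    exact ⟨a + b, map_add _ _ _⟩
  | single m r =>
    obtain ⟨m, rfl⟩ := QuotientAddGroup.mk_surjective m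
    exact ⟨single m r, quotMap_single Λ M B m r⟩

/-- the kernel of `Λ[M] → Λ[M/B]` is generated by the `[b] - 1`. -/
theorem ker_quotMap (B : AddSubgroup M) :
    RingHom.ker (quotMap Λ M B) = Ideal.span {x | ∃ b ∈ B, x = single b (1 : Λ) - 1} := by
  apply le_antisymm
  · intro x hx
    rw [RingHom.mem_ker] at hx
    let σ : M ⧸ B → M := Quotient.out
    have hσ : ∀ m : M, m - σ (QuotientAddGroup.mk m) ∈ B := by
      intro m
      have h : (QuotientAddGroup.mk (σ (QuotientAddGroup.mk m)) : M ⧸ B) = QuotientAddGroup.mk m :=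
        Quotient.out_eq _
      have := QuotientAddGroup.eq.1 h
      rwa [neg_add_eq_sub] at this
    have key : ∀ y : AddMonoidAlgebra Λ M, y - mapDomain σ (quotMap Λ M B y) ∈
        Ideal.span {x | ∃ b ∈ B, x = single b (1 : Λ) - 1} := by
      intro y
      induction y using AddMonoidAlgebra.induction_linear with
      | zero => simp
      | add x y hx hy =>
        rw [map_add, mapDomain_add, add_sub_add_comm]
        exact Ideal.add_mem _ hx hy
      | single m r =>
        rw [quotMap_single, mapDomain_single]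
        have : (single m r : AddMonoidAlgebra Λ M) - single (σ (QuotientAddGroup.mk m)) r =
            single (σ (QuotientAddGroup.mk m)) r *
              (single (m - σ (QuotientAddGroup.mk m)) (1 : Λ) - 1) := by
          rw [mul_sub, mul_one, single_mul_single, mul_one, add_sub_cancel]
        rw [this]
        exact Ideal.mul_mem_left _ _ (Ideal.subset_span ⟨_, hσ m, rfl⟩)
    have := key x
    rwa [hx, mapDomain_zero, sub_zero] at this
  · rw [Ideal.span_le]
    rintro _ ⟨b, hb, rfl⟩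
    change quotMap Λ M B _ = 0
    rw [map_sub, map_one, quotMap_single, (QuotientAddGroup.eq_zero_iff b).2 hb]
    exact sub_self _

/-- generators of the kernel of the cyclotomic quotient map. -/
def gens (B : AddSubgroup M) : Set (AddMonoidAlgebra Λ M) :=
  {x | ∃ b ∈ B, x = single b (1 : Λ) - 1} ∪
  {x | ∃ g : M, AddSubgroup.zmultiples (QuotientAddGroup.mk g : M ⧸ B) = ⊤ ∧
    x = Polynomial.aeval (single g (1 : Λ)) (Polynomial.cyclotomic B.index Λ)}

theorem quotMap_aeval (B : AddSubgroup M) (g : M) (P : Polynomial Λ) :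
    quotMap Λ M B (Polynomial.aeval (single g (1 : Λ)) P) =
      Polynomial.aeval (single (QuotientAddGroup.mk g : M ⧸ B) (1 : Λ)) P := by
  rw [Polynomial.aeval_def, Polynomial.aeval_def, Polynomial.hom_eval₂, quotMap_single]
  congr 1
  ext r
  simp [quotMap_single, AddMonoidAlgebra.coe_algebraMap]

theorem ker_cycQuotMap (B : AddSubgroup M) :
    RingHom.ker (cycQuotMap Λ M B) = Ideal.span (gens Λ M B) := by
  have h1 : RingHom.ker (cycQuotMap Λ M B) = Ideal.comap (quotMap Λ M B) (cycIdeal Λ (M ⧸ B)) := by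
    ext x
    rw [RingHom.mem_ker, Ideal.mem_comap, cycQuotMap, RingHom.comp_apply,
      Ideal.Quotient.eq_zero_iff_mem]
  have h2 : cycIdeal Λ (M ⧸ B) = Ideal.map (quotMap Λ M B)
      (Ideal.span {x | ∃ g : M, AddSubgroup.zmultiples (QuotientAddGroup.mk g : M ⧸ B) = ⊤ ∧
        x = Polynomial.aeval (single g (1 : Λ)) (Polynomial.cyclotomic B.index Λ)}) := by
    rw [Ideal.map_span, cycIdeal]
    congr 1
    ext x
    constructor
    · rintro ⟨g, hg, rfl⟩
      obtain ⟨g, rfl⟩ := QuotientAddGroup.mk_surjective g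
      exact ⟨_, ⟨g, hg, rfl⟩, by rw [quotMap_aeval]; rfl⟩
    · rintro ⟨_, ⟨g, hg, rfl⟩, rfl⟩
      exact ⟨_, hg, by rw [quotMap_aeval]; rfl⟩
  rw [h1, h2, Ideal.comap_map_of_surjective _ (quotMap_surjective Λ M B)]
  rw [← RingHom.ker_eq_comap_bot, ker_quotMap, gens, Ideal.span_union, sup_comm]

theorem mapRing_aeval {Λ' : Type w} [CommRing Λ'] (φ : Λ →+* Λ') (g : M) (n : ℕ) :
    AddMonoidAlgebra.mapRingHom M φ
        (Polynomial.aeval (single g (1 : Λ)) (Polynomial.cyclotomic n Λ)) =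
      Polynomial.aeval (single g (1 : Λ')) (Polynomial.cyclotomic n Λ') := by
  rw [Polynomial.aeval_def, Polynomial.aeval_def, Polynomial.hom_eval₂,
    AddMonoidAlgebra.mapRingHom_single, map_one, ← Polynomial.map_cyclotomic n φ,
    Polynomial.eval₂_map]
  congr 1
  ext r
  simp [AddMonoidAlgebra.coe_algebraMap]

theorem map_ker_cycQuotMap {Λ' : Type w} [CommRing Λ'] (φ : Λ →+* Λ') (B : AddSubgroup M) :
    Ideal.map (AddMonoidAlgebra.mapRingHom M φ) (RingHom.ker (cycQuotMap Λ M B)) =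
      RingHom.ker (cycQuotMap Λ' M B) := by
  rw [ker_cycQuotMap, ker_cycQuotMap, Ideal.map_span]
  congr 1
  rw [gens, gens, Set.image_union]
  congr 1
  · ext x
    constructor
    · rintro ⟨_, ⟨b, hb, rfl⟩, rfl⟩
      exact ⟨b, hb, by simp⟩
    · rintro ⟨b, hb, rfl⟩
      exact ⟨_, ⟨b, hb, rfl⟩, by simp⟩
  · ext x
    constructor
    · rintro ⟨_, ⟨b, hb, rfl⟩, rfl⟩
      exact ⟨b, hb, by rw [mapRing_aeval]⟩
    · rintro ⟨b, hb, rfl⟩
      exact ⟨_, ⟨b, hb, rfl⟩, by rw [mapRing_aeval]⟩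

theorem map_ker_quotMap {Λ' : Type w} [CommRing Λ'] (φ : Λ →+* Λ') (B : AddSubgroup M) :
    Ideal.map (AddMonoidAlgebra.mapRingHom M φ) (RingHom.ker (quotMap Λ M B)) =
      RingHom.ker (quotMap Λ' M B) := by
  rw [ker_quotMap, ker_quotMap, Ideal.map_span]
  congr 1
  ext x
  constructor
  · rintro ⟨_, ⟨b, hb, rfl⟩, rfl⟩
    exact ⟨b, hb, by simp⟩
  · rintro ⟨b, hb, rfl⟩
    exact ⟨_, ⟨b, hb, rfl⟩, by simp⟩

variable {Λ M}

theorem hom_aeval {κ : Type w} [CommRing κ] (f : AddMonoidAlgebra Λ M →+* κ) (g : M) (n : ℕ) :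
    f (Polynomial.aeval (single g (1 : Λ)) (Polynomial.cyclotomic n Λ)) =
      Polynomial.eval (f (single g 1)) (Polynomial.cyclotomic n κ) := by
  rw [Polynomial.aeval_def, Polynomial.hom_eval₂,
    ← Polynomial.map_cyclotomic n (f.comp (algebraMap Λ (AddMonoidAlgebra Λ M))),
    Polynomial.eval_map]

/-- a character killing the kernel of the cyclotomic quotient of `B` has kernel `B`. -/
theorem mem_iff_of_le {κ : Type w} [CommRing κ] [IsDomain κ] (f : AddMonoidAlgebra Λ M →+* κ)
    (B : AddSubgroup M) [B.FiniteIndex] [IsAddCyclic (M ⧸ B)] (hn : (B.index : κ) ≠ 0)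
    (h : RingHom.ker (cycQuotMap Λ M B) ≤ RingHom.ker f) (m : M) :
    m ∈ B ↔ f (single m 1) = 1 := by
  rw [ker_cycQuotMap, Ideal.span_le] at h
  have hB : ∀ b ∈ B, f (single b 1) = 1 := by
    intro b hb
    have : f (single b (1 : Λ) - 1) = 0 := h (Or.inl ⟨b, hb, rfl⟩)
    rwa [map_sub, map_one, sub_eq_zero] at this
  refine ⟨hB m, fun hm => ?_⟩
  obtain ⟨g', hg'⟩ := IsAddCyclic.exists_generator (α := M ⧸ B)
  obtain ⟨g, rfl⟩ := QuotientAddGroup.mk_surjective g'
  have hΦ : f (Polynomial.aeval (single g (1 : Λ)) (Polynomial.cyclotomic B.index Λ)) = 0 :=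
    h (Or.inr ⟨g, (AddSubgroup.eq_top_iff' _).2 hg', rfl⟩)
  rw [hom_aeval] at hΦ
  have : NeZero (B.index : κ) := ⟨hn⟩
  have hprim : IsPrimitiveRoot (f (single g 1)) B.index := by
    rw [← Polynomial.isRoot_cyclotomic_iff]
    exact hΦ
  obtain ⟨k, hk⟩ := AddSubgroup.mem_zmultiples_iff.1 (hg' (QuotientAddGroup.mk m))
  -- reduce to a natural multiple
  have hidx : B.index ≠ 0 := AddSubgroup.FiniteIndex.index_ne_zero
  obtain ⟨k', hk'⟩ : ∃ k' : ℕ, k' • (QuotientAddGroup.mk g : M ⧸ B) = QuotientAddGroup.mk m := by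
    have : Finite (M ⧸ B) := inferInstance
    exact AddSubmonoid.mem_multiples_iff _ _ |>.1
      (mem_multiples_iff_mem_zmultiples.2 (hg' (QuotientAddGroup.mk m)))
  have hb : m - k' • g ∈ B := by
    rw [← QuotientAddGroup.eq_zero_iff, QuotientAddGroup.mk_sub, QuotientAddGroup.mk_nsmul, hk',
      sub_self]
  have h1 : f (single m 1) = f (single g 1) ^ k' := by
    have : (single m (1 : Λ) : AddMonoidAlgebra Λ M) = single (m - k' • g) 1 * single g 1 ^ k' := by
      rw [single_pow, single_mul_single, one_pow, one_mul, sub_add_cancel]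
    rw [this, map_mul, hB _ hb, one_mul, map_pow]
  rw [h1, hprim.pow_eq_one_iff_dvd] at hm
  obtain ⟨c, rfl⟩ := hm
  have h2 : (B.index * c) • g ∈ B := by
    rw [mul_nsmul]
    apply AddSubgroup.nsmul_mem
    exact AddSubgroup.nsmul_index_mem B g
  have := B.add_mem hb h2
  rwa [sub_add_cancel] at this

/-- a character with kernel `B` kills the kernel of the cyclotomic quotient of `B`. -/
theorem le_ker_of_mem_iff {κ : Type w} [CommRing κ] [IsDomain κ] (f : AddMonoidAlgebra Λ M →+* κ)
    (B : AddSubgroup M) [B.FiniteIndex] (h : ∀ m : M, m ∈ B ↔ f (single m 1) = 1) :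
    RingHom.ker (cycQuotMap Λ M B) ≤ RingHom.ker f := by
  rw [ker_cycQuotMap, Ideal.span_le]
  have hidx : 0 < B.index := Nat.pos_of_ne_zero AddSubgroup.FiniteIndex.index_ne_zero
  rintro x (⟨b, hb, rfl⟩ | ⟨g, hg, rfl⟩)
  · change f _ = 0
    rw [map_sub, map_one, (h b).1 hb, sub_self]
  · change f _ = 0
    rw [hom_aeval]
    have hprim : IsPrimitiveRoot (f (single g 1)) B.index := by
      constructor
      · rw [← map_pow, single_pow, one_pow, ← h]
        exact AddSubgroup.nsmul_index_mem B g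
      · intro l hl
        rw [← map_pow, single_pow, one_pow, ← h, ← QuotientAddGroup.eq_zero_iff,
          QuotientAddGroup.mk_nsmul] at hl
        have h3 : addOrderOf (QuotientAddGroup.mk g : M ⧸ B) = B.index := by
          rw [← Nat.card_zmultiples, hg, AddSubgroup.index]
          exact AddSubgroup.card_top
        rw [← h3]
        exact addOrderOf_dvd_of_nsmul_eq_zero hl
    exact hprim.isRoot_cyclotomic hidx

/-- the kernels of the cyclotomic quotients of two different subgroups are comaximal. -/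
theorem isCoprime_ker (B B' : AddSubgroup M) [B.FiniteIndex] [B'.FiniteIndex]
    [IsAddCyclic (M ⧸ B)] [IsAddCyclic (M ⧸ B')] (hne : B ≠ B')
    (hu : IsUnit (B.index : Λ)) (hu' : IsUnit (B'.index : Λ)) :
    RingHom.ker (cycQuotMap Λ M B) ⊔ RingHom.ker (cycQuotMap Λ M B') = ⊤ := by
  by_contra hcon
  obtain ⟨m, hm, hle⟩ := Ideal.exists_le_maximal _ hcon
  have hun : ∀ n : ℕ, IsUnit (n : Λ) → (n : AddMonoidAlgebra Λ M ⧸ m) ≠ 0 := by
    intro n hn h0
    have h1 := (hn.map ((Ideal.Quotient.mk m).comp (algebraMap Λ (AddMonoidAlgebra Λ M))))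
    rw [map_natCast, h0] at h1
    exact not_isUnit_zero h1
  apply hne
  ext x
  rw [mem_iff_of_le (Ideal.Quotient.mk m) B (hun _ hu)
      (by rw [Ideal.mk_ker]; exact le_sup_left.trans hle),
    mem_iff_of_le (Ideal.Quotient.mk m) B' (hun _ hu')
      (by rw [Ideal.mk_ker]; exact le_sup_right.trans hle)]

/-- comaximality with the kernel of the quotient by a subgroup not contained in `B`. -/
theorem isCoprime_ker_quot (B₀ B : AddSubgroup M) [B.FiniteIndex]
    [IsAddCyclic (M ⧸ B)] (hne : ¬ B₀ ≤ B) (hu : IsUnit (B.index : Λ)) :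
    RingHom.ker (quotMap Λ M B₀) ⊔ RingHom.ker (cycQuotMap Λ M B) = ⊤ := by
  by_contra hcon
  obtain ⟨m, hm, hle⟩ := Ideal.exists_le_maximal _ hcon
  have hun : ∀ n : ℕ, IsUnit (n : Λ) → (n : AddMonoidAlgebra Λ M ⧸ m) ≠ 0 := by
    intro n hn h0
    have h1 := (hn.map ((Ideal.Quotient.mk m).comp (algebraMap Λ (AddMonoidAlgebra Λ M))))
    rw [map_natCast, h0] at h1
    exact not_isUnit_zero h1
  apply hne
  intro x hx
  rw [mem_iff_of_le (Ideal.Quotient.mk m) B (hun _ hu)
      (by rw [Ideal.mk_ker]; exact le_sup_right.trans hle)]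
  have : single x (1 : Λ) - 1 ∈ m := by
    apply hle
    apply Ideal.mem_sup_left
    rw [ker_quotMap]
    exact Ideal.subset_span ⟨x, hx, rfl⟩
  rwa [← Ideal.Quotient.eq_zero_iff_mem, map_sub, map_one, sub_eq_zero] at this

end K989.Cyc
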