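import Groth.Agent.GrpAlg.K989.Cyc
import Mathlib.RepresentationTheory.Maschke
import Mathlib.RingTheory.Jacobson.Semiprimary
import Mathlib.RingTheory.IntegralDomain
import Mathlib.RingTheory.Ideal.Quotient.Operations

set_option autoImplicit false
universe u v w

/-! The intersection of the kernels of the cyclotomic quotients. -/

namespace K989.Cyc

open W4c6equivkfinstab AddMonoidAlgebra

/-- the index type: subgroups containing `B₀` with cyclic quotient. -/
abbrev Ix {M : Type v} [AddCommGroup M] (B₀ : AddSubgroup M) : Type v :=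
  {B : AddSubgroup M // B₀ ≤ B ∧ IsAddCyclic (M ⧸ B)}

instance finite_Ix {M : Type v} [AddCommGroup M] (B₀ : AddSubgroup M) [B₀.FiniteIndex] :
    Finite (Ix B₀) := by
  have h1 : Finite (AddSubgroup (M ⧸ B₀)) := inferInstance
  have h2 : Finite {H : AddSubgroup M // B₀ ≤ H} :=
    Finite.of_equiv _ (QuotientAddGroup.comapMk'OrderIso B₀).toEquiv
  refine Finite.of_injective (fun B : Ix B₀ => (⟨B.1, B.2.1⟩ : {H : AddSubgroup M // B₀ ≤ H})) ?_
  rintro ⟨B, hB⟩ ⟨B', hB'⟩ h
  simpa using h

theorem finiteIndex_of_le {M : Type v} [AddCommGroup M] {B₀ B : AddSubgroup M} [B₀.FiniteIndex]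
    (h : B₀ ≤ B) : B.FiniteIndex := AddSubgroup.finiteIndex_of_le h

theorem isUnit_index_of_le {Λ : Type u} [CommRing Λ] {M : Type v} [AddCommGroup M]
    {B₀ B : AddSubgroup M} (h : B₀ ≤ B)
    (hu : IsUnit (B₀.index : Λ)) : IsUnit (B.index : Λ) := by
  obtain ⟨c, hc⟩ := AddSubgroup.index_dvd_of_le h
  rw [hc, Nat.cast_mul] at hu
  exact isUnit_of_mul_isUnit_left hu

variable {Λ : Type u} [CommRing Λ] {M : Type v} [AddCommGroup M]

theorem ker_quotMap_le {B₀ B : AddSubgroup M} (h : B₀ ≤ B) :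
    RingHom.ker (quotMap Λ M B₀) ≤ RingHom.ker (cycQuotMap Λ M B) := by
  rw [ker_quotMap, Ideal.span_le, ker_cycQuotMap]
  rintro _ ⟨b, hb, rfl⟩
  exact Ideal.subset_span (Or.inl ⟨b, h hb, rfl⟩)

/-- Over a field in which the index is invertible. -/
theorem mem_of_field (k : Type u) [Field k] (B₀ : AddSubgroup M) [B₀.FiniteIndex]
    (hu : (B₀.index : k) ≠ 0) (x : AddMonoidAlgebra k M)
    (hx : ∀ B : Ix B₀, cycQuotMap k M B.1 x = 0) : quotMap k M B₀ x = 0 := by
  have : NeZero (Nat.card (Multiplicative (M ⧸ B₀)) : k) := ⟨hu⟩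
  have : Finite (Multiplicative (M ⧸ B₀)) := inferInstanceAs (Finite (M ⧸ B₀))
  have hss : IsSemisimpleRing (AddMonoidAlgebra k (M ⧸ B₀)) := by
    have : IsSemisimpleRing (MonoidAlgebra k (Multiplicative (M ⧸ B₀))) := inferInstance
    exact (AddMonoidAlgebra.toMultiplicativeAlgEquiv k (M ⧸ B₀) (R := ℕ)).toRingEquiv.symm.isSemisimpleRing
  have hjac := IsSemisimpleRing.jacobson_eq_bot (R := AddMonoidAlgebra k (M ⧸ B₀))
  rw [← Ideal.mem_bot, ← hjac, ← Ideal.jacobson_bot, Ideal.jacobson, Submodule.mem_sInf]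
  rintro m ⟨-, hm⟩
  let f : AddMonoidAlgebra k M →+* AddMonoidAlgebra k (M ⧸ B₀) ⧸ m :=
    (Ideal.Quotient.mk m).comp (quotMap k M B₀)
  let χ : Multiplicative M →* AddMonoidAlgebra k (M ⧸ B₀) ⧸ m :=
    (f : AddMonoidAlgebra k M →* _).comp (AddMonoidAlgebra.of k M)
  have hχ : ∀ a : M, χ (Multiplicative.ofAdd a) = f (single a 1) := fun a => rfl
  have hfadd : ∀ a b : M, f (single (a + b) 1) = f (single a 1) * f (single b 1) := by
    intro a b
    rw [← map_mul, single_mul_single, one_mul]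
  have hf0 : f (single 0 1) = 1 := by
    rw [← AddMonoidAlgebra.one_def, map_one]
  let B : AddSubgroup M :=
    { carrier := {a | f (single a 1) = 1}
      zero_mem' := hf0
      add_mem' := by
        intro a b ha hb
        rw [Set.mem_setOf_eq] at ha hb ⊢
        rw [hfadd, ha, hb, one_mul]
      neg_mem' := by
        intro a ha
        rw [Set.mem_setOf_eq] at ha ⊢
        have h := hfadd a (-a)
        rw [add_neg_cancel, hf0, ha, one_mul] at h
        exact h.symm }
  have hB : ∀ a, a ∈ B ↔ f (single a 1) = 1 := fun a => Iff.rfl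
  have hle : B₀ ≤ B := by
    intro b hb
    rw [hB]
    change Ideal.Quotient.mk m (quotMap k M B₀ (single b 1)) = 1
    rw [quotMap_single, (QuotientAddGroup.eq_zero_iff b).2 hb, ← AddMonoidAlgebra.one_def, map_one]
  have : B.FiniteIndex := finiteIndex_of_le hle
  have hcyc : IsAddCyclic (M ⧸ B) := by
    let ψ : Multiplicative (M ⧸ B) →* AddMonoidAlgebra k (M ⧸ B₀) ⧸ m :=
      { toFun := fun q => Quotient.liftOn' (Multiplicative.toAdd q) (fun a => f (single a 1)) (by
          intro a b hab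
          rw [QuotientAddGroup.leftRel_apply, hB] at hab
          have h := hfadd a (-a + b)
          rw [add_neg_cancel_left, hab, mul_one] at h
          exact h.symm)
        map_one' := hf0
        map_mul' := by
          intro p q
          obtain ⟨p, rfl⟩ := Multiplicative.ofAdd.surjective p
          obtain ⟨q, rfl⟩ := Multiplicative.ofAdd.surjective q
          obtain ⟨a, rfl⟩ := QuotientAddGroup.mk_surjective p
          obtain ⟨b, rfl⟩ := QuotientAddGroup.mk_surjective q
          exact hfadd a b }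
    have hψ : ∀ a : M, ψ (Multiplicative.ofAdd (QuotientAddGroup.mk a)) = f (single a 1) :=
      fun a => rfl
    have hinj : Function.Injective ψ := by
      rw [injective_iff_map_eq_one]
      intro p hp
      obtain ⟨p, rfl⟩ := Multiplicative.ofAdd.surjective p
      obtain ⟨a, rfl⟩ := QuotientAddGroup.mk_surjective p
      rw [hψ, ← hB, ← QuotientAddGroup.eq_zero_iff] at hp
      rw [hp]
      rfl
    have : Finite (Multiplicative (M ⧸ B)) := inferInstanceAs (Finite (M ⧸ B))
    have := isCyclic_of_injective_ringHom ψ hinj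
    exact isCyclic_multiplicative_iff.1 this
  have h1 := le_ker_of_mem_iff f B hB
  have h2 : x ∈ RingHom.ker f := h1 (hx ⟨B, hle, hcyc⟩)
  exact Ideal.Quotient.eq_zero_iff_mem.1 h2

theorem quotMap_map {Λ' : Type w} [CommRing Λ'] (φ : Λ →+* Λ') (B : AddSubgroup M)
    (x : AddMonoidAlgebra Λ M) :
    quotMap Λ' M B (AddMonoidAlgebra.mapRingHom M φ x) =
      AddMonoidAlgebra.mapRingHom (M ⧸ B) φ (quotMap Λ M B x) := by
  induction x using AddMonoidAlgebra.induction_linear with
  | zero => simp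
  | add x y hx hy => simp only [map_add, hx, hy]
  | single m r => simp only [AddMonoidAlgebra.mapRingHom_single, quotMap_single]

/-- the product of the kernels of the cyclotomic quotients is contained in the kernel, over `ℤ`. -/
theorem prod_ker_le_int (B₀ : AddSubgroup M) [B₀.FiniteIndex] [Fintype (Ix B₀)] :
    ∏ B : Ix B₀, RingHom.ker (cycQuotMap ℤ M B.1) ≤ RingHom.ker (quotMap ℤ M B₀) := by
  intro x hx
  have hx' : ∀ B : Ix B₀, x ∈ RingHom.ker (cycQuotMap ℤ M B.1) := by
    intro B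
    exact (Ideal.prod_le_inf.trans (Finset.inf_le (Finset.mem_univ B))) hx
  have h1 : ∀ B : Ix B₀, cycQuotMap ℚ M B.1 (AddMonoidAlgebra.mapRingHom M (Int.castRingHom ℚ) x) = 0 := by
    intro B
    rw [← RingHom.mem_ker, ← map_ker_cycQuotMap ℤ M (Int.castRingHom ℚ)]
    exact Ideal.mem_map_of_mem _ (hx' B)
  have h2 := mem_of_field ℚ B₀ (Nat.cast_ne_zero.2 AddSubgroup.FiniteIndex.index_ne_zero) _ h1
  rw [quotMap_map] at h2
  rw [RingHom.mem_ker]
  apply AddMonoidAlgebra.map_injective (M := M ⧸ B₀) (Int.castRingHom ℚ : ℤ →+ ℚ)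
    (by exact Int.cast_injective)
  rw [AddMonoidAlgebra.map_zero]
  exact h2

theorem map_prod_ideal {ι : Type*} {R : Type*} {S : Type*} [CommRing R] [CommRing S] (f : R →+* S)
    (s : Finset ι) (I : ι → Ideal R) : Ideal.map f (∏ i ∈ s, I i) = ∏ i ∈ s, Ideal.map f (I i) :=
  _root_.map_prod (Ideal.mapHom f) I s

theorem prod_ker_le (Λ : Type u) [CommRing Λ] (B₀ : AddSubgroup M) [B₀.FiniteIndex] [Fintype (Ix B₀)] :
    ∏ B : Ix B₀, RingHom.ker (cycQuotMap Λ M B.1) ≤ RingHom.ker (quotMap Λ M B₀) := by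
  have h := Ideal.map_mono (f := AddMonoidAlgebra.mapRingHom M (Int.castRingHom Λ))
    (prod_ker_le_int (M := M) B₀)
  rw [map_prod_ideal, map_ker_quotMap] at h
  simp only [map_ker_cycQuotMap] at h
  exact h

/-- the kernels of the cyclotomic quotients are pairwise comaximal. -/
theorem pairwise_coprime (Λ : Type u) [CommRing Λ] (B₀ : AddSubgroup M) [B₀.FiniteIndex]
    (hu : IsUnit (B₀.index : Λ)) :
    Pairwise (Function.onFun IsCoprime fun B : Ix B₀ => RingHom.ker (cycQuotMap Λ M B.1)) := by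
  intro B B' hne
  have := finiteIndex_of_le B.2.1
  have := finiteIndex_of_le B'.2.1
  have := B.2.2
  have := B'.2.2
  rw [Function.onFun, Ideal.isCoprime_iff_sup_eq]
  exact isCoprime_ker B.1 B'.1 (fun h => hne (Subtype.ext h)) (isUnit_index_of_le B.2.1 hu)
    (isUnit_index_of_le B'.2.1 hu)

theorem iInf_ker_le (Λ : Type u) [CommRing Λ] (B₀ : AddSubgroup M) [B₀.FiniteIndex]
    (hu : IsUnit (B₀.index : Λ)) :
    ⨅ B : Ix B₀, RingHom.ker (cycQuotMap Λ M B.1) ≤ RingHom.ker (quotMap Λ M B₀) := by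
  classical
  have := Fintype.ofFinite (Ix B₀)
  refine le_trans ?_ (prod_ker_le Λ B₀)
  rw [Ideal.prod_eq_iInf_of_pairwise_isCoprime
    (fun i _ j _ hij => pairwise_coprime Λ B₀ hu hij)]
  simp

end K989.Cyc
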